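import Cfsg.Agent.SB.TwF.Nil
import Cfsg.Agent.H759.TwF.Main
import Cfsg.Agent.H448.FprCent.SteTor
import Cfsg.Agent.S1068
import Cfsg.Agent.S1092

/-!
# S5765: nilpotent subgroups of odd order of `²F₄(q)` have order at most `12 q²` (helper64)
-/

set_option autoImplicit false
set_option linter.unusedSectionVars false

namespace Cfsg.Agent.SB.TwF

open CoxeterSystem Cfsg Cfsg.Lie Cfsg.Lie.ChevalleyDatum
open Cfsg.Agent.ChevalleyStructure Cfsg.Agent.ChevalleyStructure.Elts Cfsg.Agent.ChevalleyStructure.CoxeterGeom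
  Cfsg.Agent.ChevalleyStructure.CoxeterGeomTypes Cfsg.Agent.ChevalleyStructure.NPerm
  Cfsg.Agent.ChevalleyStructure.RootVec
open Cfsg.Agent.Tits.Roots Cfsg.Agent.Tits.Core Cfsg.Agent.Nodes Cfsg.Agent.Nodes.Reps Cfsg.Agent.Nodes.BNOf
  Cfsg.Agent.Nodes.RGDChev
open Cfsg.Agent.KFacts.RgdField Cfsg.Agent.KFacts.RgdChevCoord Cfsg.Agent.BpExc.TorCent Cfsg.Agent.BpExc.TorChev
open Cfsg.Agent.GpExc.Field Cfsg.Agent.BpExc.Tow Cfsg.Agent.BpExc.TowChev
  Cfsg.Agent.BpExc.LangFr Cfsg.Agent.BpExc Cfsg.Agent.H129.TorusChar Cfsg.Agent.H129.TorusUntw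
open Cfsg.Agent.H493.F4End Cfsg.Agent.H493.F4Tor Cfsg.Agent.H129.WData
open Cfsg.Agent.H630.NH Cfsg.Agent.H630.Exc Cfsg.Agent.H759.TwF

universe u

section Form

variable {D : ChevalleyDatum} {l : ℕ} {M : CoxeterMatrix (Fin l)} (hp : IsType D l M) {k : Type u} [Field k]
  {W : Type*} [Group W] (cs : CoxeterSystem M W)

/-- **Finite families of the torus conjugate in the group are conjugate in `N`.** -/
theorem exists_form_fam [Finite W] (hk : LocFin k) (r : ℕ) [Fact r.Prime] [CharP k r] {ι : Type*} [Finite ι]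
    {s t : ι → ↥(D.group k)} (hs : ∀ i, s i ∈ TT D k) (ht : ∀ i, t i ∈ TT D k) {c : ↥(D.group k)}
    (e : ∀ i, c * s i = t i * c) :
    ∃ w g, Rp cs (H378.TorChar.nsysL hp cs hk r) w g ∧ ∀ i, g * s i = t i * g := by
  have H := tow hp cs hk r
  have C := coordsL hp cs hk r
  have hTL := TL_eq hp hk
  have hXL := XL_eq hp hk
  rw [← hTL] at hs ht
  have C' : Coords cs hp.isCartan (TL (Tj hp (k := k))) (nc hp k) (XL (Xj hp)) (xc hp) (ch hp) := by
    rw [hTL, hXL]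
    exact C
  obtain ⟨m, -, w, g, hg, hgs, -⟩ := H795.SetCent.exists_formZ H C' hs ht
    (c := c) (by rw [BpExc.TowChev.GG_eq_top hp cs hk]; exact Subgroup.mem_top _) e
  exact ⟨w, g, H378.Regular.rp_congr cs hTL hg, hgs⟩

end Form

theorem sqrt_bound {m : ℕ} (hm : 1 ≤ m) :
    (Real.sqrt (2 ^ (2 * m + 1) : ℕ) + 1) ^ 4 ≤ ((4 * (2 ^ (2 * m + 1)) ^ 2 : ℕ) : ℝ) := by
  have h1 : (2 : ℝ) ≤ 2 ^ m := by
    calc (2 : ℝ) = 2 ^ 1 := by norm_num
      _ ≤ _ := pow_le_pow_right₀ (by norm_num) hm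
  have h2 : ((2 ^ (2 * m + 1) : ℕ) : ℝ) = 2 * (2 ^ m) ^ 2 := by push_cast; ring
  have h3 : ((4 * (2 ^ (2 * m + 1)) ^ 2 : ℕ) : ℝ) = (2 * 2 ^ m) ^ 4 := by push_cast; ring
  rw [h2, h3]
  generalize (2 : ℝ) ^ m = b at h1
  have h4 : Real.sqrt (2 * b ^ 2) ≤ 3 / 2 * b := by
    rw [Real.sqrt_le_left (by linarith)]
    nlinarith
  exact pow_le_pow_left₀ (by positivity) (by linarith) 4

section Tor

variable {K : Type u} [Field K] [Fintype K] [CharP K 2] {m : ℕ} (hK : Fintype.card K = 2 ^ (2 * m + 1))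
  {k : Type u} [Field k] [IsAlgClosed k] [CharP k 2] (f : K →+* k) (hk : LocFin k)

include hK hk

open Cfsg.Agent.H378.TorDual Cfsg.Agent.H378.TorChar Cfsg.Agent.H448.FprCent in
/-- toral subgroups have order at most `4 q²` -/
theorem card_tX_le (hm : 1 ≤ m) (z : ↥(chevF4.group k)) :
    Nat.card ↥(tX chevF4 k (eF m f) z) ≤ 4 * (2 ^ (2 * m + 1)) ^ 2 := by
  have : Fact (Nat.Prime 2) := ⟨Nat.prime_two⟩
  let cs := CoxeterMatrix.F₄.toCoxeterSystem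
  have hW : Finite CoxeterMatrix.F₄.Group := H493.PGF4.finW
  have hfin : Finite ↥(twistedF4 K (2 ^ m)) := inferInstance
  let t : ↥(tX chevF4 k (eF m f) z) → ↥(chevF4.group k) := fun x => z⁻¹ * eF m f x * z
  have ht : ∀ x, t x ∈ TT chevF4 k := fun x => mem_tX.1 x.2
  obtain ⟨w, g, hg, hgs⟩ := exists_form_fam hp cs hk 2 (s := fun x => ste k m (t x)) (t := t)
    (fun x => ste_TT (ht x)) ht (c := z⁻¹ * ste k m z) fun x =>
      mul_inv_eq_iff_eq_mul.1 (tau hK f (n := z⁻¹ * ste k m z) rfl x.1)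
  have hdet : ((LinearMap.det (rep cs hp.isCartan w - Rl m) : ℤ) : k) ≠ 0 := det_ne cs _ hm w k
  have hfin : Finite ↥(KerOf k (rep cs hp.isCartan w - Rl m)) := by
    apply Nat.finite_of_card_ne_zero
    rw [card_kerOf k hdet]
    intro h0
    apply hdet
    rw [Int.natAbs_eq_zero.1 h0, Int.cast_zero]
  have hle : Nat.card ↥(tX chevF4 k (eF m f) z) ≤ Nat.card ↥(KerOf k (rep cs hp.isCartan w - Rl m)) := by
    refine Nat.card_le_card_of_injective (fun x : ↥(tX chevF4 k (eF m f) z) =>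
      (⟨tchar hp ⟨_, ht x⟩, mem_ker cs hk hg (ht x) (mul_inv_eq_iff_eq_mul.2 (hgs x))⟩ :
        ↥(KerOf k (rep cs hp.isCartan w - Rl m)))) ?_
    intro a b hab
    have h1 := tchar_injective hp (congrArg Subtype.val hab)
    have h3 : z⁻¹ * eF m f a * z = z⁻¹ * eF m f b * z := congrArg Subtype.val h1
    exact Subtype.ext (eF_injective f (mul_left_cancel (mul_right_cancel h3)))
  rw [card_kerOf k hdet] at hle
  have h5 := (det_bound cs hp.isCartan m w).trans (sqrt_bound hm)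
  exact hle.trans (by exact_mod_cast h5)

/-- the torus of order `(q + 1) ^ 2` -/
theorem exists_torus : ∃ z : ↥(chevF4.group k), (2 ^ (2 * m + 1) + 1) ^ 2 ∣ Nat.card ↥(tX chevF4 k (eF m f) z) := by
  classical
  have : Fact (Nat.Prime 2) := ⟨Nat.prime_two⟩
  let cs := CoxeterMatrix.F₄.toCoxeterSystem
  have hW : Finite CoxeterMatrix.F₄.Group := H493.PGF4.finW
  have hN : NSys CoxeterMatrix.F₄ (TT chevF4 k) (nc hp k) := nsys_of_locFin hp cs hk 2
  obtain ⟨n, hn⟩ := exists_rp cs hN (TD.w cs tdB)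
  obtain ⟨z, hz⟩ := H493.F4Lang.lang_ste m n
  have hodd := odd_NN (2 ^ m) 1
  obtain ⟨N, hN'⟩ : ∃ N : ℕ, N = 2 ^ (2 * m + 1) + 1 := ⟨_, rfl⟩
  have hNe : pe (2 ^ m) (H759.TwF.NN 1) = (N : ℤ) := by
    rw [hN']
    change (1 : ℤ) + 2 ^ m * (0 + 2 ^ m * (2 + 2 ^ m * 0)) = _
    push_cast
    ring
  have hNk : (N : k) ≠ 0 := odd_cast hNe
  have ha : H759.TwF.NN 1 = tdB.N := rfl
  have hd := okT_B
  rw [ha] at hNe hodd
  have key : ∀ {c : Fin 4 → P} {U : Fin 4} {v : P} {κ E : ℕ}, OkO tdB c U v κ E →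
      IsCoprime (N : ℤ) (Lc (2 ^ m) tdB.Q c (sr U)) := by
    intro c U v κ E hO
    have h1 := pe_of_peq (2 ^ m) hO
    rw [pe_pa, pe_pm, pe_p4, pe_pmo] at h1
    rw [← hNe]
    refine coprime_pow (m := m) hodd (v := pe (2 ^ m) v) (k := κ) (E := E) ?_
    rw [Lc_apply, ← h1]
    simp only [Mh_sr, pe_pm]
  refine ⟨z, ?_⟩
  have h0 : Lc (2 ^ m) tdB.Q ![[1], [], [], []] (sr 1) = 0 := by
    have h1 := pe_of_peq (2 ^ m) okZ_B
    rw [pe_p4, pe] at h1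
    rw [Lc_apply, ← h1]
    simp only [Mh_sr, pe_pm]
  rw [← hN']
  exact dvd_card_two hK f hk cs hn hz hNk (L := Lc (2 ^ m) tdB.Q ![[], [1], [], []])
    (L' := Lc (2 ^ m) tdB.Q ![[1], [], [], []]) (U := sr 1)
    (U' := sr 2) (fun x => by rw [← hNe]; exact Lc_adapted cs hd.1 hd.2.1 _ _ x)
    (fun x => by rw [← hNe]; exact Lc_adapted cs hd.1 hd.2.1 _ _ x) (key okO_B) (key okO2_B)
    (by rw [h0]; exact dvd_zero _)

end Tor

theorem mod_nine (m : ℕ) : 2 ^ (2 * m + 1) % 9 = 2 ∨ 2 ^ (2 * m + 1) % 9 = 8 ∨ 2 ^ (2 * m + 1) % 9 = 5 := by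
  induction m with
  | zero => norm_num
  | succ m ih =>
    rw [show 2 * (m + 1) + 1 = 2 * m + 1 + 2 by ring, pow_add]
    omega

theorem arith {q : ℕ} (hq : q % 9 = 2 ∨ q % 9 = 8 ∨ q % 9 = 5) :
    ∃ c : ℕ, ¬ 9 ∣ c ∧ q ^ 12 * (q - 1) * (q ^ 3 + 1) * (q ^ 4 - 1) * (q ^ 6 + 1) = (q + 1) ^ 2 * c := by
  obtain ⟨t, rfl⟩ : ∃ t, q = t + 1 := ⟨q - 1, by omega⟩
  have e1 : (t + 1) ^ 4 - 1 = (t + 2) * (t * ((t + 1) ^ 2 + 1)) := by
    rw [Nat.sub_eq_iff_eq_add (Nat.one_le_pow 4 (t + 1) (by omega))]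
    ring
  refine ⟨(t + 1) ^ 12 * t * (t ^ 2 + t + 1) * (t * ((t + 1) ^ 2 + 1)) * ((t + 1) ^ 6 + 1), fun h => ?_, ?_⟩
  · have h1 : t % 9 = 1 ∨ t % 9 = 7 ∨ t % 9 = 4 := by omega
    rw [Nat.dvd_iff_mod_eq_zero] at h
    rcases h1 with h1 | h1 | h1 <;>
      simp [Nat.mul_mod, Nat.add_mod, Nat.pow_mod, h1] at h
  · rw [e1, Nat.add_sub_cancel]
    ring

/-- **Nilpotent subgroups of odd order.** -/
theorem card_nil_le {K : Type u} [Field K] [Fintype K] {m : ℕ} (hm : 1 ≤ m) (hK : Fintype.card K = 2 ^ (2 * m + 1))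
    {N : Type*} [Group N] [Finite N] [Group.IsNilpotent N] (ι : N →* ↥(twistedF4 K (2 ^ m)))
    (hι : Function.Injective ι) (hodd : ¬ 2 ∣ Nat.card N) : Nat.card N ≤ 12 * (2 ^ (2 * m + 1)) ^ 2 := by
  classical
  have : Fact (Nat.Prime 2) := ⟨Nat.prime_two⟩
  have : Fact (Nat.Prime 3) := ⟨Nat.prime_three⟩
  have hc2 : CharP K 2 := F4Fixed.charP_two hK
  obtain ⟨p, e, hpF, hpc, hpk, he, hpe, hk⟩ := exists_closure hK
  have hp2 : p = 2 := CharP.eq K hpc hc2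
  subst hp2
  let k := AlgebraicClosure K
  let f : K →+* k := algebraMap K k
  have hfin : Finite ↥(twistedF4 K (2 ^ m)) := inferInstance
  obtain ⟨z, d, hd⟩ := exists_torus hK f hk
  have hi : ¬ 3 ^ (1 + 1) ∣ Nat.card (↥(twistedF4 K (2 ^ m)) ⧸ tX chevF4 k (eF m f) z) := by
    obtain ⟨c, h9, hc'⟩ := arith (mod_nine m)
    have h1 := S1068.result hK
    intro h
    apply h9
    rw [hc', ← (tX chevF4 k (eF m f) z).card_mul_index, hd, mul_assoc] at h1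
    have h4 := Nat.eq_of_mul_eq_mul_left (by positivity) h1
    rw [← h4]
    exact Dvd.dvd.mul_left h d
  let P : Sylow 3 N := default
  let _ : MulAction P (↥(twistedF4 K (2 ^ m)) ⧸ tX chevF4 k (eF m f) z) :=
    MulAction.compHom _ (ι.comp (P : Subgroup N).subtype)
  obtain ⟨y, hy⟩ := exists_stab Nat.prime_three P.isPGroup' hi
  obtain ⟨x, rfl⟩ := QuotientGroup.mk_surjective y
  have hA : (MulAction.stabilizer P (x : ↥(twistedF4 K (2 ^ m)) ⧸ tX chevF4 k (eF m f) z)).map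
      (P : Subgroup N).subtype ≤ P := Subgroup.map_subtype_le _
  obtain ⟨B, h1, ⟨g, h2⟩, h3⟩ := exists_tor_alg hp 2 hk ((eF m f).comp ι)
    ((Nat.Prime.coprime_iff_not_dvd Nat.prime_two).2 hodd).symm Nat.prime_three (P.isPGroup'.to_le hA)
    ⟨z⁻¹ * eF m f x⁻¹, by
      rintro _ ⟨a, ha, rfl⟩
      have h4 : ((ι a * x : ↥(twistedF4 K (2 ^ m))) : ↥(twistedF4 K (2 ^ m)) ⧸ tX chevF4 k (eF m f) z) = x := ha
      have h5 := mem_tX.1 (QuotientGroup.eq.1 h4.symm)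
      have h6 : z⁻¹ * eF m f x⁻¹ * ((eF m f).comp ι) ((P : Subgroup N).subtype a) * (z⁻¹ * eF m f x⁻¹)⁻¹ =
          z⁻¹ * eF m f (x⁻¹ * (ι a * x)) * z := by
        rw [map_mul, map_mul, map_inv]
        change z⁻¹ * (eF m f x)⁻¹ * eF m f (ι a) * _ = _
        group
      rw [h6]
      exact h5⟩
  have h7 : B.index ∣ 3 := by
    refine (Nat.dvd_iff_prime_pow_dvd_dvd _ _).2 fun ℓ j hℓ hj => ?_
    rcases Nat.eq_zero_or_pos j with rfl | hj0
    · rw [pow_zero]; exact one_dvd _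
    by_cases h8 : ℓ = 3
    · subst h8
      have h9 := hj.trans (Subgroup.index_dvd_of_le h1)
      rw [← Subgroup.relIndex_mul_index hA, Subgroup.relIndex, Subgroup.subgroupOf,
        Subgroup.comap_map_eq_self_of_injective (Subgroup.subtype_injective _)] at h9
      exact ((Nat.Coprime.pow_left j ((Nat.Prime.coprime_iff_not_dvd hℓ).2
        P.not_dvd_index)).dvd_of_dvd_mul_right h9).trans hy
    · exfalso
      have h9 := (dvd_pow_self ℓ hj0.ne').trans (h3 ℓ j hℓ h8 hj)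
      rw [show Nat.card CoxeterMatrix.F₄.Group = 1152 from S1092.result (⟨4, CoxeterMatrix.F₄⟩, 1152) (by simp),
        show (1152 : ℕ) = 2 ^ 7 * 3 ^ 2 by norm_num] at h9
      rcases (Nat.Prime.dvd_mul hℓ).1 h9 with h10 | h10
      · have h11 := (Nat.prime_dvd_prime_iff_eq hℓ Nat.prime_two).1 (hℓ.dvd_of_dvd_pow h10)
        subst h11
        exact hodd (((dvd_pow_self 2 hj0.ne').trans hj).trans B.index_dvd_card)
      · exact h8 ((Nat.prime_dvd_prime_iff_eq hℓ Nat.prime_three).1 (hℓ.dvd_of_dvd_pow h10))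
  have h8 : Nat.card B ≤ Nat.card ↥(tX chevF4 k (eF m f) g⁻¹) :=
    Nat.card_le_card_of_injective (fun b : B => (⟨ι b, mem_tX.2 (by rw [inv_inv]; exact h2 _ b.2)⟩ :
      ↥(tX chevF4 k (eF m f) g⁻¹))) fun a b h => Subtype.ext (hι (congrArg Subtype.val h))
  calc Nat.card N = Nat.card B * B.index := B.card_mul_index.symm
    _ ≤ 4 * (2 ^ (2 * m + 1)) ^ 2 * 3 :=
        Nat.mul_le_mul (h8.trans (card_tX_le hK f hk hm _)) (Nat.le_of_dvd (by norm_num) h7)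
    _ = _ := by ring

end Cfsg.Agent.SB.TwF
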