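import Cfsg.Agent.H234.TorFam
import Cfsg.Agent.H795.TorSub

/-!
# S5765: toral subgroups of nilpotent `p'`-subgroups (helper64)

* `tor_of_fix` : a `p'`-subgroup fixing a chamber is conjugate into `T`;
* `exists_tor_rgd` : `N` nilpotent of order prime to `p`, `A₀ ≤ N` a toral `ℓ₀`-subgroup: there is a toral subgroup
  `A ≥ A₀` whose index has `ℓ`-part dividing `|W|` for all `ℓ ≠ ℓ₀`;
* `exists_tor_alg` : the same in `D.group k`; `exists_tor_index` : a toral subgroup of index dividing `|W|`.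
-/

set_option autoImplicit false

namespace Cfsg.Agent.SB.TwF

open CoxeterSystem Cfsg.Agent.ChevalleyStructure.CoxeterGeom Cfsg.Agent.Tits.Roots Cfsg.Agent.Tits.Core
  Cfsg.Agent.Nodes.Reps Cfsg.Agent.Nodes.BNOf Cfsg.Agent.Nodes.BNOf.RGD Cfsg.Agent.Nodes.Bruhat
  Cfsg.Agent.BpExc.TorRgd Cfsg.Agent.H234.TorFam
open scoped Pointwise

universe u

/-- a `q`-group acting on a finite set of size not divisible by `q ^ (e + 1)` -/
theorem exists_stab {q e : ℕ} (hq : q.Prime) {Q X : Type*} [Group Q] [Finite Q] [Finite X] [MulAction Q X]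
    (hQ : IsPGroup q Q) (hX : ¬ q ^ (e + 1) ∣ Nat.card X) : ∃ x : X, (MulAction.stabilizer Q x).index ∣ q ^ e := by
  classical
  have hfq : Fact q.Prime := ⟨hq⟩
  by_contra hcon
  push Not at hcon
  apply hX
  have : Fintype X := Fintype.ofFinite X
  have : Fintype (MulAction.orbitRel.Quotient Q X) := Fintype.ofFinite _
  rw [Nat.card_congr (MulAction.selfEquivSigmaOrbits Q X), Nat.card_sigma]
  refine Finset.dvd_sum fun ω _ => ?_
  have h1 : Nat.card ↥(MulAction.orbit Q (Quotient.out ω)) = (MulAction.stabilizer Q (Quotient.out ω)).index :=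
    (MulAction.index_stabilizer Q (Quotient.out ω)).symm
  rw [h1]
  obtain ⟨n, hn⟩ := hQ.index (MulAction.stabilizer Q (Quotient.out ω))
  have h2 := hcon (Quotient.out ω)
  rw [hn] at h2 ⊢
  apply pow_dvd_pow
  by_contra h3
  exact h2 (pow_dvd_pow q (by omega))

/-- primary subgroups for different primes of a nilpotent group commute -/
theorem comm_of_ne {N : Type*} [Group N] [Finite N] [Group.IsNilpotent N] {a b : ℕ} (ha : a.Prime) (hb : b.Prime)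
    (hab : a ≠ b) {A B : Subgroup N} (hA : IsPGroup a A) (hB : IsPGroup b B) : A ≤ Subgroup.centralizer (B : Set N) := by
  have : Fact a.Prime := ⟨ha⟩
  have : Fact b.Prime := ⟨hb⟩
  obtain ⟨P, hP⟩ := hA.exists_le_sylow
  obtain ⟨Q, hQ⟩ := hB.exists_le_sylow
  intro x hx y hy
  exact (Subgroup.commute_of_normal_of_disjoint (Q : Subgroup N) P inferInstance
    inferInstance (IsPGroup.disjoint_of_ne b a hab.symm _ _ Q.isPGroup' P.isPGroup') y x (hQ hy)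
    (hP hx)).eq

section RG

variable {I W Y : Type*} [Fintype I] [DecidableEq I] [Group W] [Group Y] {M : CoxeterMatrix I}
  {cs : CoxeterSystem M W} {A : I → I → ℤ} {h : IsCartan M A} {p : ℕ} {T : Subgroup Y} {n : I → Y}
  {X : (I → ℤ) → Subgroup Y} (R : RGD cs h p T n X) [Finite Y] [Fact p.Prime] [Finite W]

include R

/-- a `p'`-subgroup fixing a chamber is conjugate into `T` -/
theorem tor_of_fix (hG : GG cs h T X = ⊤) {E : Subgroup Y} (hcop : (Nat.card E).Coprime p) {S : Sylow p Y}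
    (hfix : ∀ x ∈ E, x • S = S) : ∃ g : Y, ∀ x ∈ E, g * x * g⁻¹ ∈ T := by
  obtain ⟨P, hP⟩ := exists_sylow_eq R hG
  obtain ⟨g, hg⟩ := MulAction.exists_smul_eq Y P S
  have hB : ∀ x ∈ E, g⁻¹ * x * g ∈ RGD.B cs h T X := by
    intro x hx
    rw [← smul_eq_iff_mem_B R hG hP, mul_smul, mul_smul, hg, hfix x hx, ← hg, inv_smul_smul]
  obtain ⟨g', hg'⟩ := exists_conj_sub (p := p) (U := RGD.Sup X (RGD.Pos cs h)) (T := T)
    (Q := E.map (MulAut.conj g⁻¹).toMonoidHom) R.T_le_normalizer_U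
    (Cfsg.Agent.H904.TorPQ.U_inf_T R) R.isPGroup_Upos (by
      rintro _ ⟨x, hx, rfl⟩
      obtain ⟨t, ht, u, hu, e⟩ := R.mem_B.1 (hB x hx)
      refine ⟨t * u * t⁻¹, (Subgroup.mem_normalizer_iff.1 (R.T_le_normalizer_U ht) u).1 hu, t, ht, ?_⟩
      show g⁻¹ * x * g⁻¹⁻¹ = _
      rw [inv_inv, e]; group) (by
      rw [Subgroup.card_map_of_injective (MulAut.conj g⁻¹).injective]; exact hcop)
  refine ⟨g' * g⁻¹, fun x hx => ?_⟩
  have h1 := hg' ((MulAut.conj g⁻¹).toMonoidHom x) ⟨x, hx, rfl⟩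
  have h2 : g' * (MulAut.conj g⁻¹).toMonoidHom x * g'⁻¹ = (g' * g⁻¹) * x * (g' * g⁻¹)⁻¹ := by
    show g' * (g⁻¹ * x * g⁻¹⁻¹) * g'⁻¹ = _
    group
  rwa [h2] at h1

/-- one more prime -/
theorem tor_step (hG : GG cs h T X = ⊤) {N : Type*} [Group N] [Finite N] (φ : N →* Y)
    (hcop : (Nat.card N).Coprime p) {ℓ e : ℕ} (hℓ : ℓ.Prime) (hW : ¬ ℓ ^ (e + 1) ∣ Nat.card W)
    (hk : ∀ Q : Set Y, Q ⊆ T → ∀ x, IsRoot cs h x →
      Nat.card ↥(X x ⊓ Subgroup.centralizer Q) ≡ 1 [MOD ℓ ^ (e + 1)])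
    {A₀ P : Subgroup N} (hP : IsPGroup ℓ P) (hc : A₀ ≤ Subgroup.centralizer (P : Set N))
    (hA : ∃ g : Y, ∀ x ∈ A₀, g * φ x * g⁻¹ ∈ T) :
    ∃ B ≤ P, B.relIndex P ∣ ℓ ^ e ∧ ∃ g : Y, ∀ x ∈ A₀ ⊔ B, g * φ x * g⁻¹ ∈ T := by
  obtain ⟨g, hg⟩ := hA
  let ψ : N →* Y := (MulAut.conj g).toMonoidHom.comp φ
  have hQ : ((A₀.map ψ : Subgroup Y) : Set Y) ⊆ T := by
    rintro _ ⟨x, hx, rfl⟩
    exact hg x hx
  have h1 := card_fix_fam_modEq R hG hQ (hk _ hQ)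
  let C := {S : Sylow p Y // ∀ a ∈ ((A₀.map ψ : Subgroup Y) : Set Y), MulAut.conj a • S = S}
  let _ : MulAction P C :=
    { smul := fun x S => ⟨ψ x • S.1, by
        rintro _ ⟨a, ha, rfl⟩
        have h2 : ψ a • S.1 = S.1 := S.2 _ ⟨a, ha, rfl⟩
        change ψ a • ψ x • S.1 = ψ x • S.1
        rw [← mul_smul, ← map_mul, ← hc ha x x.2, map_mul, mul_smul, h2]⟩
      one_smul := fun S => Subtype.ext (by
        change ψ ((1 : P) : N) • S.1 = S.1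
        rw [Subgroup.coe_one, map_one, one_smul])
      mul_smul := fun x y S => Subtype.ext (by
        change ψ ((x * y : P) : N) • S.1 = ψ x • ψ y • S.1
        rw [Subgroup.coe_mul, map_mul, mul_smul]) }
  obtain ⟨S, hS⟩ := exists_stab hℓ (X := C) hP fun hd =>
    hW (Nat.modEq_zero_iff_dvd.1 (h1.symm.trans (Nat.modEq_zero_iff_dvd.2 hd)))
  refine ⟨(MulAction.stabilizer P S).map P.subtype, Subgroup.map_subtype_le _, ?_, ?_⟩
  · rwa [Subgroup.relIndex, Subgroup.subgroupOf,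
      Subgroup.comap_map_eq_self_of_injective (Subgroup.subtype_injective _)]
  · have h3 : A₀ ⊔ (MulAction.stabilizer P S).map P.subtype ≤ (MulAction.stabilizer Y S.1).comap ψ := by
      refine sup_le (fun a ha => S.2 _ ⟨a, ha, rfl⟩) ?_
      rintro _ ⟨x, hx, rfl⟩
      exact congrArg Subtype.val hx
    obtain ⟨g', hg'⟩ := tor_of_fix R hG (E := (A₀ ⊔ (MulAction.stabilizer P S).map P.subtype).map ψ) (S := S.1)
      (Nat.Coprime.coprime_dvd_left ((Subgroup.card_map_dvd _ _).trans (Subgroup.card_subgroup_dvd_card _)) hcop)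
      (by
        rintro _ ⟨x, hx, rfl⟩
        exact h3 hx)
    refine ⟨g' * g, fun x hx => ?_⟩
    have h4 := hg' _ ⟨x, hx, rfl⟩
    have h5 : g' * ψ x * g'⁻¹ = g' * g * φ x * (g' * g)⁻¹ := by
      change g' * (g * φ x * g⁻¹) * g'⁻¹ = _
      group
    rwa [h5] at h4

/-- **Toral subgroups of nilpotent groups.** -/
theorem exists_tor_rgd (hG : GG cs h T X = ⊤) {N : Type*} [Group N] [Finite N] [Group.IsNilpotent N] (φ : N →* Y)
    (hcop : (Nat.card N).Coprime p)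
    (hk : ∀ Q : Set Y, Q ⊆ T → ∀ x, IsRoot cs h x →
      Nat.card ↥(X x ⊓ Subgroup.centralizer Q) ≡ 1 [MOD Nat.card N ^ Nat.card W])
    {ℓ₀ : ℕ} (hℓ₀ : ℓ₀.Prime) {A₀ : Subgroup N} (hA₀ : IsPGroup ℓ₀ A₀)
    (hA : ∃ g : Y, ∀ x ∈ A₀, g * φ x * g⁻¹ ∈ T) :
    ∃ B : Subgroup N, A₀ ≤ B ∧ (∃ g : Y, ∀ x ∈ B, g * φ x * g⁻¹ ∈ T) ∧
      ∀ ℓ j : ℕ, ℓ.Prime → ℓ ≠ ℓ₀ → ℓ ^ j ∣ B.index → ℓ ^ j ∣ Nat.card W := by
  classical
  have hW0 : Nat.card W ≠ 0 := Nat.card_pos.ne'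
  have key : ∀ s : Finset ℕ, (∀ ℓ ∈ s, ℓ.Prime ∧ ℓ ≠ ℓ₀ ∧ ℓ ∣ Nat.card N) →
      ∃ B : Subgroup N, A₀ ≤ B ∧ (∃ g : Y, ∀ x ∈ B, g * φ x * g⁻¹ ∈ T) ∧
        (∀ ℓ ∈ s, ∀ j, ℓ ^ j ∣ B.index → ℓ ^ j ∣ Nat.card W) ∧
        ∀ ℓ : ℕ, ℓ.Prime → ℓ ∉ s → ℓ ≠ ℓ₀ → ∀ P : Subgroup N, IsPGroup ℓ P →
          B ≤ Subgroup.centralizer (P : Set N) := by
    intro s
    induction s using Finset.induction_on with
    | empty =>
      intro _
      exact ⟨A₀, le_rfl, hA, fun _ h => absurd h (Finset.notMem_empty _),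
        fun ℓ h1 _ h2 P hP => comm_of_ne hℓ₀ h1 h2.symm hA₀ hP⟩
    | insert ℓ s hℓs ih =>
      intro hs
      obtain ⟨B, h1, h2, h3, h4⟩ := ih fun a ha => hs a (Finset.mem_insert_of_mem ha)
      obtain ⟨hℓ, hℓ0, hℓN⟩ := hs ℓ (Finset.mem_insert_self ℓ s)
      have : Fact ℓ.Prime := ⟨hℓ⟩
      let P : Sylow ℓ N := default
      have hd : ℓ ^ ((Nat.card W).factorization ℓ + 1) ∣ Nat.card N ^ Nat.card W :=
        (pow_dvd_pow ℓ (Nat.factorization_lt ℓ hW0)).trans (pow_dvd_pow_of_dvd hℓN _)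
      obtain ⟨B', h5, h6, h7⟩ := tor_step R hG φ hcop hℓ (Nat.pow_succ_factorization_not_dvd hW0 hℓ)
        (fun Q hQ x hx => (hk Q hQ x hx).of_dvd hd) P.isPGroup' (h4 ℓ hℓ hℓs hℓ0 P P.isPGroup') h2
      refine ⟨B ⊔ B', h1.trans le_sup_left, h7, fun a ha j hj => ?_, fun a ha1 ha2 ha3 Q hQ => ?_⟩
      · rcases Finset.mem_insert.1 ha with rfl | ha
        · have h8 := hj.trans (Subgroup.index_dvd_of_le (le_sup_right : B' ≤ B ⊔ B'))
          rw [← Subgroup.relIndex_mul_index h5] at h8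
          exact ((Nat.Coprime.pow_left j ((Nat.Prime.coprime_iff_not_dvd hℓ).2
            P.not_dvd_index)).dvd_of_dvd_mul_right h8).trans (h6.trans (Nat.ordProj_dvd _ _))
        · exact h3 a ha j (hj.trans (Subgroup.index_dvd_of_le le_sup_left))
      · refine sup_le (h4 a ha1 (fun h => ha2 (Finset.mem_insert_of_mem h)) ha3 Q hQ) ?_
        exact comm_of_ne hℓ ha1 (fun h => ha2 (h ▸ Finset.mem_insert_self ℓ s)) (P.isPGroup'.to_le h5) hQ
  obtain ⟨B, h1, h2, h3, -⟩ := key ((Nat.card N).primeFactors.erase ℓ₀) fun ℓ hℓ => by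
    rw [Finset.mem_erase, Nat.mem_primeFactors] at hℓ
    exact ⟨hℓ.2.1, hℓ.1, hℓ.2.2.1⟩
  refine ⟨B, h1, h2, fun ℓ j hℓ hℓ0 hj => ?_⟩
  rcases Nat.eq_zero_or_pos j with rfl | hj0
  · rw [pow_zero]; exact one_dvd _
  · refine h3 ℓ ?_ j hj
    rw [Finset.mem_erase, Nat.mem_primeFactors]
    exact ⟨hℓ0, hℓ, ((dvd_pow_self ℓ hj0.ne').trans hj).trans B.index_dvd_card, Nat.card_pos.ne'⟩

end RG

section Chev

open Cfsg Cfsg.Lie Cfsg.Lie.ChevalleyDatum Cfsg.Agent.ChevalleyStructure Cfsg.Agent.ChevalleyStructure.Elts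
  Cfsg.Agent.ChevalleyStructure.CoxeterGeomTypes Cfsg.Agent.ChevalleyStructure.NPerm
  Cfsg.Agent.Nodes Cfsg.Agent.Nodes.RGDChev Cfsg.Agent.Nodes.OppDec
open Cfsg.Agent.KFacts.RgdField Cfsg.Agent.KFacts.RgdChevCoord Cfsg.Agent.BpExc.TorCent Cfsg.Agent.BpExc.TorChev
open Cfsg.Agent.CpAut.RgdFix Cfsg.Agent.CpAut.RgdSub Cfsg.Agent.KFacts.RgdDiag
open Cfsg.Agent.GpExc.Field Cfsg.Agent.BpExc.Tow Cfsg.Agent.BpExc.TowChev Cfsg.Agent.BpExc.TorAll
  Cfsg.Agent.BpExc.FamUntw Cfsg.Agent.BpExc.FamInst Cfsg.Agent.BpExc.LangFr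
open Cfsg.Agent.CpAut.RgdUntw Cfsg.Agent.H795.TorSub

variable {D : ChevalleyDatum} {l : ℕ} {M : CoxeterMatrix (Fin l)} (hp : IsType D l M)
  (r : ℕ) [Fact r.Prime] {k : Type u} [Field k] [CharP k r] [IsAlgClosed k]

include hp in
/-- **Toral subgroups of nilpotent groups**, over the algebraic closure. -/
theorem exists_tor_alg (hk : LocFin k) {N : Type*} [Group N] [Finite N] [Group.IsNilpotent N]
    (φ : N →* ↥(D.group k)) (hcop : (Nat.card N).Coprime r) {ℓ₀ : ℕ} (hℓ₀ : ℓ₀.Prime) {A₀ : Subgroup N}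
    (hA₀ : IsPGroup ℓ₀ A₀) (hA : ∃ g : ↥(D.group k), ∀ x ∈ A₀, g * φ x * g⁻¹ ∈ TT D k) :
    ∃ B : Subgroup N, A₀ ≤ B ∧ (∃ g : ↥(D.group k), ∀ x ∈ B, g * φ x * g⁻¹ ∈ TT D k) ∧
      ∀ ℓ j : ℕ, ℓ.Prime → ℓ ≠ ℓ₀ → ℓ ^ j ∣ B.index → ℓ ^ j ∣ Nat.card M.Group := by
  classical
  have hWf := finite_W hp (M.toCoxeterSystem)
  obtain ⟨g, hg⟩ := hA
  let ψ : N →* ↥(D.group k) := (MulAut.conj g).toMonoidHom.comp φ
  have hn0 : 0 < Nat.card N ^ Nat.card M.Group := pow_pos Nat.card_pos _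
  obtain ⟨n, hn, hdn, hS, hZ⟩ := exists_level_EE hp r hk (S := Set.range ψ) (Z := ψ '' A₀) (Set.finite_range _)
    (Set.toFinite _) (by
      rintro _ ⟨x, hx, rfl⟩
      exact hg x hx) (Nat.totient_pos.2 hn0)
  have hn1 : r ^ n ≡ 1 [MOD Nat.card N ^ Nat.card M.Group] := by
    obtain ⟨d, rfl⟩ := hdn
    rw [pow_mul]
    have := (Nat.ModEq.pow_totient (hcop.symm.pow_right (Nat.card M.Group))).pow d
    rwa [one_pow] at this
  have hfinN : Finite ↥(EE r n : Subfield k) := finite_EE r hn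
  have : CharP ↥(EE r n : Subfield k) r := charP_fixF r _
  have hGfin : Finite ↥(D.group ↥(EE r n : Subfield k)) := finite_group
  have R := rgd (K := ↥(EE r n : Subfield k)) hp M.toCoxeterSystem r
  have hG := GG_top (K := ↥(EE r n : Subfield k)) hp M.toCoxeterSystem
  set f := emb hp.inList (EE r n : Subfield k).subtype with hf
  have hinj : Function.Injective f := emb_injective hp.inList _
  let φ' : N →* ↥(D.group ↥(EE r n : Subfield k)) :=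
    (MonoidHom.ofInjective hinj).symm.toMonoidHom.comp (ψ.codRestrict f.range fun x => hS ⟨x, rfl⟩)
  have hφ' : ∀ x, f (φ' x) = ψ x := fun x => MonoidHom.apply_ofInjective_symm hinj _
  obtain ⟨B, h1, ⟨g', h2⟩, h3⟩ := exists_tor_rgd R hG φ' hcop (fun Q hQ x hx =>
    card_cent_root hp r M.toCoxeterSystem hQ hx (by rw [card_EE r hn]; exact hn1)) hℓ₀ hA₀ ⟨1, fun x hx => by
      obtain ⟨t, ht, e⟩ := hZ _ ⟨x, hx, rfl⟩
      rw [one_mul, inv_one, mul_one, hinj ((hφ' x).trans e.symm)]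
      exact ht⟩
  refine ⟨B, h1, ⟨f g' * g, fun x hx => ?_⟩, h3⟩
  have h4 : f g' * g * φ x * (f g' * g)⁻¹ = f (g' * φ' x * g'⁻¹) := by
    rw [map_mul, map_mul, map_inv, hφ']
    change _ = f g' * (g * φ x * g⁻¹) * (f g')⁻¹
    group
  rw [h4]
  exact emb_T hp _ ⟨_, h2 x hx, rfl⟩

include hp in
/-- **A nilpotent `r'`-subgroup has a toral subgroup of index dividing `|W|`.** -/
theorem exists_tor_index (hk : LocFin k) {N : Type*} [Group N] [Finite N] [Group.IsNilpotent N]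
    (φ : N →* ↥(D.group k)) (hcop : (Nat.card N).Coprime r) :
    ∃ B : Subgroup N, B.index ∣ Nat.card M.Group ∧ ∃ g : ↥(D.group k), ∀ x ∈ B, g * φ x * g⁻¹ ∈ TT D k := by
  have hr : r.Prime := Fact.out
  have hWf := finite_W hp (M.toCoxeterSystem)
  obtain ⟨B, -, h2, h3⟩ := exists_tor_alg hp r hk φ hcop hr (A₀ := ⊥) IsPGroup.of_bot ⟨1, fun x hx => by
    rw [Subgroup.mem_bot.1 hx, map_one, one_mul, inv_one, mul_one]
    exact one_mem _⟩
  refine ⟨B, (Nat.dvd_iff_prime_pow_dvd_dvd _ _).2 fun ℓ j hℓ hj => ?_, h2⟩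
  rcases Nat.eq_zero_or_pos j with rfl | hj0
  · rw [pow_zero]; exact one_dvd _
  · refine h3 ℓ j hℓ ?_ hj
    rintro rfl
    exact (Nat.Prime.coprime_iff_not_dvd hℓ).1 hcop.symm (((dvd_pow_self ℓ hj0.ne').trans hj).trans B.index_dvd_card)

end Chev

end Cfsg.Agent.SB.TwF
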