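import Cfsg.Agent.SB.TwF.Crit
import Cfsg.Agent.SB.TwF.Tor
import Cfsg.Agent.H67.RG.TwFCent
import Cfsg.Agent.H628.BalTwF4
import Cfsg.Agent.S2128

/-!
# S5765: the non-parabolic case for `²F₄(q)` (helper64)
-/

set_option autoImplicit false

namespace Cfsg.Agent.SB.TwF

open Subgroup Cfsg Cfsg.Lie Cfsg.Agent.H786.FC Cfsg.Agent.SB.R1

theorem ord_le {q : ℕ} (hq : 1 ≤ q) : q ^ 12 * (q - 1) * (q ^ 3 + 1) * (q ^ 4 - 1) * (q ^ 6 + 1) ≤ q ^ 26 := by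
  obtain ⟨t, rfl⟩ : ∃ t, q = t + 1 := ⟨q - 1, by omega⟩
  have h1 : t * ((t + 1) ^ 3 + 1) ≤ (t + 1) ^ 4 := by
    have : (t + 1) ^ 4 = t * ((t + 1) ^ 3 + 1) + (t ^ 3 + 3 * t ^ 2 + 2 * t + 1) := by ring
    omega
  have h2 : ((t + 1) ^ 4 - 1) * ((t + 1) ^ 6 + 1) ≤ (t + 1) ^ 10 := by
    obtain ⟨u, hu⟩ : ∃ u, (t + 1) ^ 4 = u + 1 := ⟨(t + 1) ^ 4 - 1, by have := Nat.one_le_pow 4 (t + 1) hq; omega⟩
    have h3 : (t + 1) ^ 4 ≤ (t + 1) ^ 6 := Nat.pow_le_pow_right hq (by norm_num)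
    rw [show (t + 1) ^ 10 = (t + 1) ^ 4 * (t + 1) ^ 6 by ring, hu, Nat.add_sub_cancel]
    nlinarith
  rw [Nat.add_sub_cancel]
  calc (t + 1) ^ 12 * t * ((t + 1) ^ 3 + 1) * ((t + 1) ^ 4 - 1) * ((t + 1) ^ 6 + 1)
      = (t + 1) ^ 12 * (t * ((t + 1) ^ 3 + 1)) * (((t + 1) ^ 4 - 1) * ((t + 1) ^ 6 + 1)) := by ring
    _ ≤ (t + 1) ^ 12 * (t + 1) ^ 4 * (t + 1) ^ 10 := by gcongr
    _ = _ := by ring

theorem le_ord {q : ℕ} (hq : 8 ≤ q) :
    3 * q ^ 26 ≤ 4 * (q ^ 12 * (q - 1) * (q ^ 3 + 1) * (q ^ 4 - 1) * (q ^ 6 + 1)) := by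
  have h1 : 7 * q ≤ 8 * (q - 1) := by omega
  have h2 : 7 * q ^ 4 ≤ 8 * (q ^ 4 - 1) := by
    have : 8 ≤ q ^ 4 := hq.trans (Nat.le_self_pow (by norm_num) q)
    omega
  have h3 : q ^ 12 * (7 * q) * q ^ 3 * (7 * q ^ 4) * q ^ 6 ≤
      q ^ 12 * (8 * (q - 1)) * (q ^ 3 + 1) * (8 * (q ^ 4 - 1)) * (q ^ 6 + 1) := by
    gcongr <;> omega
  have e1 : q ^ 12 * (7 * q) * q ^ 3 * (7 * q ^ 4) * q ^ 6 = 49 * q ^ 26 := by ring
  have e2 : q ^ 12 * (8 * (q - 1)) * (q ^ 3 + 1) * (8 * (q ^ 4 - 1)) * (q ^ 6 + 1) =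
      64 * (q ^ 12 * (q - 1) * (q ^ 3 + 1) * (q ^ 4 - 1) * (q ^ 6 + 1)) := by ring
  rw [e1, e2] at h3
  omega

theorem two_mul_le {m : ℕ} (hm : 1 ≤ m) : 2 * (2 * m + 1) ≤ 2 ^ (2 * m + 1) := by
  induction m, hm using Nat.le_induction with
  | base => norm_num
  | succ m _ ih =>
    rw [show 2 * (m + 1) + 1 = 2 * m + 1 + 2 by ring, pow_add]
    omega

theorem num {q f : ℕ} (hq : 8 ≤ q) (hf : 2 * f ≤ q) :
    f * (12 * q ^ 2) ^ 5 * q ^ 9 ≤ q ^ 12 * (q - 1) * (q ^ 3 + 1) * (q ^ 4 - 1) * (q ^ 6 + 1) := by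
  have h1 := le_ord hq
  have h2 : 8 ^ 6 ≤ q ^ 6 := Nat.pow_le_pow_left hq 6
  have h3 : (2 * f) * 8 ^ 6 * q ^ 19 ≤ q * q ^ 6 * q ^ 19 := by gcongr
  have e1 : q * q ^ 6 * q ^ 19 = q ^ 26 := by ring
  have e2 : f * (12 * q ^ 2) ^ 5 * q ^ 9 = 248832 * (f * q ^ 19) := by ring
  have e3 : (2 * f) * 8 ^ 6 * q ^ 19 = 524288 * (f * q ^ 19) := by ring
  rw [e1, e3] at h3
  rw [e2]
  omega

variable {K : Type} [Field K] [Fintype K] {m : ℕ} (hm : 1 ≤ m) (hK : Fintype.card K = 2 ^ (2 * m + 1))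

include hm hK

/-- the fixed points of an outer automorphism of prime order -/
theorem card_fix_outer {α : MulAut ↥(twistedF4 K (2 ^ m))} (hp : (orderOf α).Prime) (hni : ¬ ∃ g, α = MulAut.conj g) :
    Nat.card (fixS α) ≤ (2 ^ (2 * m + 1)) ^ 9 := by
  have h2p : Fact (Nat.Prime 2) := ⟨Nat.prime_two⟩
  have hcK : CharP K 2 := Cfsg.Agent.ChevalleyStructure.TwF4.Twisted.charP_two hK
  have hpK : PerfectRing K 2 := inferInstance
  have hfin : Finite ↥(twistedF4 K (2 ^ m)) := inferInstance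
  have hp2 : orderOf α ≠ 2 := by
    intro h2
    have h1 : orderOf (α : Out ↥(twistedF4 K (2 ^ m))) ∣ 2 :=
      (orderOf_map_dvd (QuotientGroup.mk' _) α).trans h2.dvd
    have h3 := orderOf_dvd_natCard (α : Out ↥(twistedF4 K (2 ^ m)))
    rw [S2128.result hm hK] at h3
    have h4 : orderOf (α : Out ↥(twistedF4 K (2 ^ m))) = 1 := by
      rcases (Nat.dvd_prime Nat.prime_two).1 h1 with h | h
      · exact h
      · rw [h] at h3
        omega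
    obtain ⟨g, hg⟩ := (QuotientGroup.eq_one_iff α).1 (orderOf_eq_one_iff.1 h4)
    exact hni ⟨g, hg.symm⟩
  obtain ⟨σ, j, s, i, δ, hms, hFx, hi, he⟩ := H628.BalTwF4.exists_std hK hm hp hp2 α rfl hni
  obtain ⟨f, hf, hfix⟩ := Cfsg.Agent.H270.StrP.tf4_fixed hK σ hFx (j := s) (by rw [hms]; ring)
  have hfinE : Fintype ↥(Cfsg.Agent.H967.CopMat.Fx σ) := Fintype.ofFinite _
  have hE' : Fintype.card ↥(Cfsg.Agent.H967.CopMat.Fx σ) = 2 ^ (2 * j + 1) := by rw [← Nat.card_eq_fintype_card, hFx]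
  have hrange : fixS (S2128.fld σ (2 ^ m)) = f.range := by
    ext g
    rw [mem_fixS, ← hfix]
    have h1 : (S2128.fld σ (2 ^ m) g) =
        Cfsg.Agent.H967.CopMat.fieldAut (Cfsg.Agent.H967.CopSz.stab_f4 (K := K) (2 ^ m)) σ g := by
      apply Subtype.ext
      apply Units.ext
      rfl
    rw [h1]
  have hc : Nat.card (fixS (S2128.fld σ (2 ^ m))) =
      Nat.card ↥(twistedF4 ↥(Cfsg.Agent.H967.CopMat.Fx σ) (2 ^ j)) := by
    rw [hrange]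
    exact (Nat.card_congr (MonoidHom.ofInjective hf).toEquiv).symm
  have hs : 1 ≤ s := by
    by_contra h0
    have h1 : s = 0 := by omega
    rw [h1, mul_zero, zero_add] at hms
    subst hms
    rw [S1068.result hE', ← S1068.result hK] at hc
    have h2 := (card_eq_iff_eq_top _).1 hc
    have h3 : S2128.fld σ (2 ^ m) = 1 := MulEquiv.ext fun x => mem_fixS.1 (h2 ▸ mem_top x)
    rw [h3, mul_one, mul_inv_cancel] at he
    exact hp.one_lt.ne' (Nat.Coprime.eq_one_of_dvd hi.symm (orderOf_dvd_of_pow_eq_one he))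
  refine (card_fixS_le he).trans ?_
  rw [hc, S1068.result hE']
  refine (ord_le Nat.one_le_two_pow).trans ?_
  rw [← pow_mul, ← pow_mul]
  refine Nat.pow_le_pow_right (by norm_num) ?_
  have h4 : 2 * j + 1 ≤ (2 * j + 1) * s := Nat.le_mul_of_pos_right _ hs
  omega

theorem rowN_twistedF4 [IsSimpleGroup ↥(twistedF4 K (2 ^ m))] (hc : ¬ IsMulCommutative ↥(twistedF4 K (2 ^ m))) :
    RowN 2 ↥(twistedF4 K (2 ^ m)) := by
  intro S hS _ hN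
  have hfin : Finite ↥(twistedF4 K (2 ^ m)) := inferInstance
  have h8 : 8 ≤ 2 ^ (2 * m + 1) := by
    calc 8 = 2 ^ 3 := by norm_num
      _ ≤ _ := Nat.pow_le_pow_right (by norm_num) (by omega)
  refine good_of_nil hc (B := 12 * (2 ^ (2 * m + 1)) ^ 2) (f := 2 * m + 1) (C := (2 ^ (2 * m + 1)) ^ 9) Nat.prime_two
    hS hN (fun N _ h2 => card_nil_le hm hK N.subtype N.subtype_injective h2) (S2128.result hm hK).le
    (fun x h1 h2 => (H67.RG.card_cent_le hm hK h1 h2 rfl).trans ?_) (fun α _ h1 h2 => card_fix_outer hm hK h1 h2) ?_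
  · rw [Nat.card_eq_fintype_card, hK]
    exact Nat.pow_le_pow_right (by omega) (by norm_num)
  · rw [S1068.result hK]
    exact num h8 (two_mul_le hm)

omit hm hK in
/-- **The box `n2F4`.** -/
theorem box2F4 : BoxN fun p K _ => p = 2 ∧ Lie.Iso2F4 K := by
  rintro p G _ _ _ hG - ⟨rfl, K, _, _, m, hm, hK, ⟨e⟩⟩
  have : IsSimpleGroup ↥(twistedF4 K (2 ^ m)) := e.symm.isSimpleGroup
  refine RowN.of_equiv e (rowN_twistedF4 hm hK fun h => hG ⟨⟨fun a b => e.injective ?_⟩⟩)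
  rw [map_mul, map_mul]
  exact h.is_comm.comm _ _

end Cfsg.Agent.SB.TwF
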