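import Cfsg.Agent.SB.R1.Crit
import Cfsg.Agent.SB.Split

/-!
# S5765: the counting criterion in the non-parabolic case (helper64)

* `NPar.not_dvd` : a nilpotent `S`-invariant subgroup of `S ⊓ T` has order prime to `p`;
* `card_fit_inf_le`, `card_inf_le` : bounds for `F(S) ⊓ T` and `S ⊓ T`, if the nilpotent `p'`-subgroups of `K` have order at
  most `B`;
* `good_of_nil` : `f B⁵ C ≤ |K|` gives `FitReg`.
-/

set_option autoImplicit false

namespace Cfsg.Agent.SB.TwF

open Subgroup Cfsg Cfsg.Agent.H786.FC Cfsg.Agent.SB.R1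

section general

variable {A : Type*} [Group A] [Finite A] {T S : Subgroup A} {p : ℕ}

theorem not_dvd_of_nil (hp : p.Prime) (h : NPar p T S) {X : Subgroup A} (hX : X ≤ S ⊓ T)
    (hn : Group.IsNilpotent X) (hi : ∀ s ∈ S, ∀ x ∈ X, s * x * s⁻¹ ∈ X) : ¬ p ∣ Nat.card X := by
  have : Fact p.Prime := ⟨hp⟩
  let P : Sylow p X := default
  have hP : ∀ x : X, (∃ n, x ^ p ^ n = 1) → x ∈ (P : Subgroup X) := by
    rintro x ⟨n, hx⟩
    have h1 : IsPGroup p (zpowers x) := IsPGroup.of_card_dvd_pow (n := n) (by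
      rw [Nat.card_zpowers]; exact orderOf_dvd_of_pow_eq_one hx)
    obtain ⟨Q, hQ⟩ := h1.exists_le_sylow
    have := Sylow.unique_of_normal P inferInstance
    rw [Subsingleton.elim P Q]
    exact hQ (mem_zpowers x)
  have h1 := h ((P : Subgroup X).map X.subtype) ((map_subtype_le _).trans hX) (P.isPGroup'.map _) (by
    rintro s hs _ ⟨x, hx, rfl⟩
    refine ⟨⟨_, hi s hs x x.2⟩, hP _ ?_, rfl⟩
    obtain ⟨n, hn⟩ := P.isPGroup' ⟨x, hx⟩
    refine ⟨n, Subtype.ext ?_⟩
    have h2 : (x : A) ^ p ^ n = 1 := congrArg (fun y : (P : Subgroup X) => ((y : X) : A)) hn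
    change (s * x * s⁻¹) ^ p ^ n = 1
    rw [conj_pow, h2, mul_one, mul_inv_cancel])
  rw [map_eq_bot_iff_of_injective _ X.subtype_injective] at h1
  intro hd
  apply P.not_dvd_index
  rwa [h1, index_bot]

omit [Finite A] in
theorem nil_of_le {X Y : Subgroup A} (h : X ≤ Y) (hY : Group.IsNilpotent Y) : Group.IsNilpotent X :=
  Group.nilpotent_of_mulEquiv (subgroupOfEquivOfLe h)

theorem fit_nil (S : Subgroup A) : Group.IsNilpotent (fit S) :=
  have := Lib.Cores.fittingSubgroup_isNilpotent (G := S)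
  Group.nilpotent_of_mulEquiv ((fittingSubgroup S).equivMapOfInjective _ S.subtype_injective)

omit [Finite A] in
theorem fit_conj {s : A} (hs : ∀ x, x ∈ S ↔ s * x * s⁻¹ ∈ S) {x : A} (hx : x ∈ fit S) : s * x * s⁻¹ ∈ fit S := by
  obtain ⟨y, hy, rfl⟩ := hx
  let e : S ≃* S :=
    { toFun := fun a => ⟨s * a * s⁻¹, (hs a).1 a.2⟩
      invFun := fun a => ⟨s⁻¹ * a * s, (hs _).2 (by simp [mul_assoc])⟩
      left_inv := fun a => Subtype.ext (by simp [mul_assoc])
      right_inv := fun a => Subtype.ext (by simp [mul_assoc])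
      map_mul' := fun a b => Subtype.ext (by simp [mul_assoc]) }
  have h1 : e y ∈ fittingSubgroup S := (Lib.Cores.map_equiv_fittingSubgroup e).le ⟨y, hy, rfl⟩
  exact ⟨e y, h1, rfl⟩

theorem not_dvd_fit_inf (hT : T.Normal) (hp : p.Prime) (h : NPar p T S) : ¬ p ∣ Nat.card ↥(fit S ⊓ T) :=
  not_dvd_of_nil hp h (inf_le_inf_right _ (map_subtype_le _)) (nil_of_le inf_le_left (fit_nil S))
    fun s hs _ hx => ⟨fit_conj (fun x => ⟨fun h => mul_mem (mul_mem hs h) (inv_mem hs), fun h => by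
      simpa [mul_assoc] using mul_mem (mul_mem (inv_mem hs) h) hs⟩) hx.1, hT.conj_mem _ hx.2 s⟩

theorem not_dvd_fit (hT : T.Normal) (hp : p.Prime) (h : NPar p T S) : ¬ p ∣ Nat.card ↥(fit (S ⊓ T)) :=
  not_dvd_of_nil hp h (map_subtype_le _) (fit_nil _)
    fun s hs _ hx => fit_conj (S := S ⊓ T) (fun x => ⟨fun h =>
      ⟨S.mul_mem (S.mul_mem hs h.1) (S.inv_mem hs), hT.conj_mem _ h.2 s⟩,
      fun h => ⟨by simpa [mul_assoc] using S.mul_mem (S.mul_mem (S.inv_mem hs) h.1) hs,
        by simpa [mul_assoc] using hT.conj_mem _ h.2 s⁻¹⟩⟩) hx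

/-- the elements of `F(S) ⊓ T` have order prime to `p` -/
theorem orderOf_ne (hT : T.Normal) (hp : p.Prime) (h : NPar p T S) {c : A} (hc : c ∈ fit S) (hcT : c ∈ T) :
    orderOf c ≠ p := by
  intro ho
  apply not_dvd_fit_inf hT hp h
  rw [← ho]
  exact (fit S ⊓ T).orderOf_dvd_natCard (mem_inf.2 ⟨hc, hcT⟩)

variable {B : ℕ} (hT : T.Normal) (hp : p.Prime) (h : NPar p T S)
  (hB : ∀ N ≤ T, Group.IsNilpotent N → ¬ p ∣ Nat.card N → Nat.card N ≤ B)

include hT hp h hB

theorem card_fit_inf_le : Nat.card ↥(fit S ⊓ T) ≤ B :=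
  hB _ inf_le_right (nil_of_le inf_le_left (fit_nil S)) (not_dvd_fit_inf hT hp h)

theorem card_inf_le (hS : Group.IsSolvable S) : Nat.card ↥(S ⊓ T) ≤ B ^ 4 := by
  have : Group.IsSolvable ↥(S ⊓ T) :=
    Group.isSolvable_of_isSolvable_injective (f := inclusion (inf_le_left : S ⊓ T ≤ S)) (inclusion_injective _)
  refine card_le_fitting_pow.trans (Nat.pow_le_pow_left ?_ 4)
  rw [← card_fit]
  exact hB _ ((map_subtype_le _).trans inf_le_right) (fit_nil _) (not_dvd_fit hT hp h)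

theorem fitReg_of_nil (hS : Group.IsSolvable S) {f : ℕ} (hf : T.index ≤ f)
    (hc : ∀ c ∈ fit S, (orderOf c).Prime → f * B ^ 5 ≤ cls T c) : FitReg T S := by
  refine fitReg_of_bound hT _ hc ?_
  calc Nat.card (fit S) * Nat.card ↥(S ⊓ T) ≤ (B * f) * B ^ 4 :=
        Nat.mul_le_mul ((card_le_inf_mul_index hT).trans (Nat.mul_le_mul (card_fit_inf_le hT hp h hB) hf))
          (card_inf_le hT hp h hB hS)
    _ = _ := by ring

end general

section aut

variable {K : Type*} [Group K] [Finite K] [IsSimpleGroup K] (hK : ¬ IsMulCommutative K)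

include hK

/-- **The criterion.** -/
theorem good_of_nil {p B f C : ℕ} (hp : p.Prime) {S : Subgroup (MulAut K)} (hS : Group.IsSolvable S)
    (h : NPar p (InnG K) S) (hB : ∀ N : Subgroup K, Group.IsNilpotent N → ¬ p ∣ Nat.card N → Nat.card N ≤ B)
    (hf : Nat.card (Out K) ≤ f)
    (hi : ∀ x : K, (orderOf x).Prime → orderOf x ≠ p → Nat.card (centralizer ({x} : Set K)) ≤ C)
    (ho : ∀ α ∈ fit S, (orderOf α).Prime → (¬ ∃ g, α = MulAut.conj g) → Nat.card (fixS α) ≤ C)
    (hn : f * B ^ 5 * C ≤ Nat.card K) : Good (InnG K) S := by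
  refine Or.inl (fitReg_of_nil (innG_normal K) hp h (fun N hN h1 h2 => ?_) hS hf fun c hc hpr =>
    le_cls hK (le_trans (Nat.mul_le_mul_left _ ?_) hn))
  · have h3 := card_comap hK N
    rw [inf_eq_left.2 hN] at h3
    rw [h3] at h2 ⊢
    refine hB _ ?_ h2
    have h4 : (N.comap MulAut.conj).map MulAut.conj = N := map_comap_eq_self hN
    have h5 : Group.IsNilpotent ↥((N.comap MulAut.conj).map MulAut.conj) := by rwa [h4]
    exact Group.nilpotent_of_mulEquiv ((N.comap MulAut.conj).equivMapOfInjective _ (conj_injective hK)).symm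
  · by_cases hg : ∃ g, c = MulAut.conj g
    · obtain ⟨g, rfl⟩ := hg
      have h1 := orderOf_ne (innG_normal K) hp h hc ⟨g, rfl⟩
      rw [orderOf_injective _ (conj_injective hK)] at h1 hpr
      have h2 : fixS (MulAut.conj g) = centralizer ({g} : Set K) := by
        ext x
        rw [mem_fixS, mem_centralizer_singleton_iff, MulAut.conj_apply, mul_inv_eq_iff_eq_mul, eq_comm]
      rw [h2]
      exact hi g hpr h1
    · exact ho c hc hpr hg

end aut

/-- conjugates and coprime powers -/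
theorem card_fixS_le {K : Type*} [Group K] [Finite K] {α β δ : MulAut K} {i : ℕ} (h : α ^ i = δ * β * δ⁻¹) :
    Nat.card (fixS α) ≤ Nat.card (fixS β) := by
  refine Nat.card_le_card_of_injective (fun x : fixS α => (⟨δ⁻¹ x, ?_⟩ : fixS β)) fun a b hab =>
    Subtype.ext (δ⁻¹.injective (congrArg Subtype.val hab))
  have h1 : ∀ n : ℕ, (α ^ n) x = x := by
    intro n
    induction n with
    | zero => rfl
    | succ n ih => rw [pow_succ, MulAut.mul_apply, show α x = x from x.2, ih]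
  have h2 := h1 i
  rw [h, MulAut.mul_apply, MulAut.mul_apply] at h2
  rw [mem_fixS]
  apply δ.injective
  rw [h2, MulAut.apply_inv_self]

end Cfsg.Agent.SB.TwF
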